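import Cfsg.Agent.H863.U33.Dat

/-!
# S5525, part F: `N(⟨y⟩)` normalises `P`, `U = P⟨t⟩`, `O` (helper757)
-/

set_option autoImplicit false
set_option linter.unusedSectionVars false

namespace Cfsg.Agent.H757.U33

open Subgroup Cfsg.Agent.H863.U33

section gen

variable {G : Type*} [Group G]

theorem conj_closure {X : Set G} {N : Subgroup G} {s : G} (h : ∀ x ∈ X, s⁻¹ * x * s ∈ N) {p : G}
    (hp : p ∈ closure X) : s⁻¹ * p * s ∈ N := by
  have h1 : closure X ≤ N.comap (MulAut.conj s⁻¹).toMonoidHom := by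
    rw [closure_le]
    intro x hx
    show s⁻¹ * x * s⁻¹⁻¹ ∈ N
    rw [inv_inv]
    exact h x hx
  have h2 : s⁻¹ * p * s⁻¹⁻¹ ∈ N := h1 hp
  rwa [inv_inv] at h2

theorem conj_self {N : Subgroup G} {s : G} (hs : s ∈ N) {p : G} (hp : p ∈ N) : s⁻¹ * p * s ∈ N :=
  N.mul_mem (N.mul_mem (N.inv_mem hs) hp) hs

/-- the subgroup of all elements normalising `N` (finite) -/
def Nr (N : Subgroup G) [Finite G] : Subgroup G where
  carrier := {g | ∀ p ∈ N, g⁻¹ * p * g ∈ N}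
  one_mem' := fun p hp => by simpa using hp
  mul_mem' := by
    intro a b ha hb p hp
    have : (a * b)⁻¹ * p * (a * b) = b⁻¹ * (a⁻¹ * p * a) * b := by group
    rw [this]
    exact hb _ (ha _ hp)
  inv_mem' := by
    intro a ha p hp
    have h1 : Function.Injective (fun x : N => (⟨a⁻¹ * x * a, ha x x.2⟩ : N)) := by
      intro x x' hx
      have h2 : a⁻¹ * (x : G) * a = a⁻¹ * x' * a := congrArg Subtype.val hx
      exact Subtype.ext (mul_left_cancel (mul_right_cancel h2))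
    obtain ⟨x, hx⟩ := (Finite.injective_iff_surjective.1 h1) ⟨p, hp⟩
    have h2 : a⁻¹ * (x : G) * a = p := congrArg Subtype.val hx
    rw [← h2]
    have : a⁻¹⁻¹ * (a⁻¹ * (x : G) * a) * a⁻¹ = x := by group
    rw [this]
    exact x.2

theorem mem_Nr [Finite G] {N : Subgroup G} {g : G} : g ∈ Nr N ↔ ∀ p ∈ N, g⁻¹ * p * g ∈ N := Iff.rfl

end gen

section tb

variable {G : Type} [Group G] {y : G} {e : Fin 8 → G} {t : G} {w : Fin 6 → G} {k : Fin 2 → G} {n : G}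

theorem PP_le_UU : PP y e ≤ UU y e t := closure_mono (by intro x hx; exact Or.inl hx)

theorem UU_le_OO : UU y e t ≤ OO y e t w := closure_mono (by intro x hx; exact Or.inl hx)

theorem OO_le_KK : OO y e t w ≤ KK y e t w k := closure_mono (by intro x hx; exact Or.inl hx)

theorem y_mem : y ∈ PP y e := subset_closure (Or.inl rfl)

theorem e_mem (j : Fin 8) : e j ∈ PP y e := subset_closure (Or.inr ⟨j, rfl⟩)

theorem t_mem : t ∈ UU y e t := subset_closure (Or.inr rfl)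

theorem w_mem (a : Fin 6) : w a ∈ OO y e t w := subset_closure (Or.inr ⟨a, rfl⟩)

theorem nf_mem (v : Fin 8 → ZMod 3) (b : ZMod 3) : nf y e v b ∈ PP y e := by
  unfold nf
  refine mul_mem (mul_mem (mul_mem (mul_mem (mul_mem (mul_mem (mul_mem (mul_mem ?_ ?_) ?_) ?_) ?_) ?_) ?_) ?_) ?_
  all_goals exact pow_mem (by first | exact e_mem _ | exact y_mem) _

theorem wnf_mem (m : Fin 6 → ZMod 2) (c : ZMod 2) : wnf t w m c ∈ OO y e t w := by
  unfold wnf
  refine mul_mem (mul_mem (mul_mem (mul_mem (mul_mem (mul_mem ?_ ?_) ?_) ?_) ?_) ?_) ?_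
  all_goals exact pow_mem (by first | exact w_mem _ | exact UU_le_OO t_mem) _

/-- conjugation by `s`: from the data for `P` -/
theorem conj_PP {s : G} (hy : s⁻¹ * y * s ∈ PP y e) (he : ∀ j, s⁻¹ * e j * s ∈ PP y e) :
    ∀ p ∈ PP y e, s⁻¹ * p * s ∈ PP y e := by
  intro p hp
  refine conj_closure ?_ hp
  rintro x (hx | ⟨j, rfl⟩)
  · rw [Set.mem_singleton_iff.1 hx]; exact hy
  · exact he j

theorem conj_UU {s : G} (h : ∀ p ∈ PP y e, s⁻¹ * p * s ∈ PP y e) (ht : s⁻¹ * t * s ∈ UU y e t) :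
    ∀ p ∈ UU y e t, s⁻¹ * p * s ∈ UU y e t := by
  intro p hp
  refine conj_closure ?_ hp
  rintro x (hx | hx)
  · exact PP_le_UU (h x (subset_closure hx))
  · rw [Set.mem_singleton_iff.1 hx]; exact ht

theorem conj_OO {s : G} (h : ∀ p ∈ UU y e t, s⁻¹ * p * s ∈ UU y e t) (hw : ∀ a, s⁻¹ * w a * s ∈ OO y e t w) :
    ∀ p ∈ OO y e t w, s⁻¹ * p * s ∈ OO y e t w := by
  intro p hp
  refine conj_closure ?_ hp
  rintro x (hx | ⟨a, rfl⟩)
  · exact UU_le_OO (h x (subset_closure hx))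
  · exact hw a

variable [Finite G]

/-- elements normalising all three -/
def N3 (y : G) (e : Fin 8 → G) (t : G) (w : Fin 6 → G) : Subgroup G :=
  Nr (PP y e) ⊓ Nr (UU y e t) ⊓ Nr (OO y e t w)

theorem mem_N3 {s : G} : s ∈ N3 y e t w ↔ (∀ p ∈ PP y e, s⁻¹ * p * s ∈ PP y e) ∧
    (∀ p ∈ UU y e t, s⁻¹ * p * s ∈ UU y e t) ∧ (∀ p ∈ OO y e t w, s⁻¹ * p * s ∈ OO y e t w) := by
  unfold N3
  rw [mem_inf, mem_inf, mem_Nr, mem_Nr, mem_Nr, and_assoc]

theorem conj_of_comm {s x : G} (h : s * x = x * s) : s⁻¹ * x * s = x := by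
  rw [mul_assoc, ← h, inv_mul_cancel_left]

theorem PP_le_N3 : PP y e ≤ N3 y e t w := fun _ hs => mem_N3.2
  ⟨fun _ hp => conj_self hs hp, fun _ hp => conj_self (PP_le_UU hs) hp,
    fun _ hp => conj_self (UU_le_OO (PP_le_UU hs)) hp⟩

theorem t_mem_N3 (h : TB y e t w k n) : t ∈ N3 y e t w := by
  refine mem_N3.2 ⟨conj_PP ?_ ?_, fun _ hp => conj_self t_mem hp, fun _ hp => conj_self (UU_le_OO t_mem) hp⟩
  · rw [conj_of_comm h.ty]; exact y_mem
  · intro j; rw [h.te]; exact nf_mem _ _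

theorem w_mem_N3 (h : TB y e t w k n) (a : Fin 6) : w a ∈ N3 y e t w := by
  have h1 : ∀ p ∈ PP y e, (w a)⁻¹ * p * w a ∈ PP y e := by
    refine conj_PP ?_ ?_
    · rw [conj_of_comm (h.wy a)]; exact y_mem
    · intro j; rw [h.we]; exact nf_mem _ _
  refine mem_N3.2 ⟨h1, conj_UU h1 ?_, fun _ hp => conj_self (w_mem a) hp⟩
  rw [conj_of_comm (h.wt a)]; exact t_mem

theorem k_mem_N3 (h : TB y e t w k n) (c : Fin 2) : k c ∈ N3 y e t w := by
  have h1 : ∀ p ∈ PP y e, (k c)⁻¹ * p * k c ∈ PP y e := by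
    refine conj_PP ?_ ?_
    · rw [conj_of_comm (h.ky c)]; exact y_mem
    · intro j; rw [h.ke]; exact nf_mem _ _
  have h2 := conj_UU (t := t) h1 (by rw [conj_of_comm (h.kt c)]; exact t_mem)
  refine mem_N3.2 ⟨h1, h2, conj_OO h2 ?_⟩
  intro a; rw [h.kw]; exact wnf_mem _ _

theorem n_mem_N3 (h : TB y e t w k n) : n ∈ N3 y e t w := by
  have h1 : ∀ p ∈ PP y e, n⁻¹ * p * n ∈ PP y e := by
    refine conj_PP ?_ ?_
    · rw [h.ny]; exact inv_mem y_mem
    · intro j; rw [h.ne]; exact nf_mem _ _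
  have h2 := conj_UU (t := t) h1 (by rw [conj_of_comm h.nt]; exact t_mem)
  refine mem_N3.2 ⟨h1, h2, conj_OO h2 ?_⟩
  intro a; rw [h.nw]; exact wnf_mem _ _

theorem KK_le_N3 (h : TB y e t w k n) : KK y e t w k ≤ N3 y e t w := by
  unfold KK
  rw [closure_le]
  rintro x ((((hx | ⟨j, rfl⟩) | hx) | ⟨a, rfl⟩) | ⟨c, rfl⟩)
  · rw [Set.mem_singleton_iff.1 hx]; exact PP_le_N3 y_mem
  · exact PP_le_N3 (e_mem j)
  · rw [Set.mem_singleton_iff.1 hx]; exact t_mem_N3 h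
  · exact w_mem_N3 h a
  · exact k_mem_N3 h c

theorem KK_le_cent (h : TB y e t w k n) : KK y e t w k ≤ centralizer {y} := by
  unfold KK
  rw [closure_le]
  rintro x ((((hx | ⟨j, rfl⟩) | hx) | ⟨a, rfl⟩) | ⟨c, rfl⟩)
  · rw [Set.mem_singleton_iff.1 hx]; exact mem_centralizer_singleton_iff.2 rfl
  · exact mem_centralizer_singleton_iff.2 (h.ey j)
  · rw [Set.mem_singleton_iff.1 hx]; exact mem_centralizer_singleton_iff.2 h.ty
  · exact mem_centralizer_singleton_iff.2 (h.wy a)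
  · exact mem_centralizer_singleton_iff.2 (h.ky c)

theorem cent_eq (hK : StK) (h : TB y e t w k n) (hc : Nat.card (centralizer {y}) ≤ 65303470080) :
    centralizer {y} = KK y e t w k ∧ Nat.card (centralizer {y}) = 65303470080 := by
  have h1 := hK h
  have h2 : KK y e t w k = centralizer {y} := eq_of_le_of_card_ge (KK_le_cent h) (hc.trans h1)
  refine ⟨h2.symm, ?_⟩
  rw [h2] at h1
  omega

theorem norm_y (hK : StK) (h : TB y e t w k n) (hc : Nat.card (centralizer {y}) ≤ 65303470080) {g : G}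
    (hg : g⁻¹ * y * g = y ∨ g⁻¹ * y * g = y⁻¹) : g ∈ N3 y e t w := by
  have hle : centralizer {y} ≤ N3 y e t w := by rw [(cent_eq hK h hc).1]; exact KK_le_N3 h
  rcases hg with hg | hg
  · apply hle
    rw [mem_centralizer_singleton_iff]
    rw [mul_assoc, inv_mul_eq_iff_eq_mul] at hg
    exact hg.symm
  · have h1 : g * n⁻¹ ∈ centralizer {y} := by
      rw [mem_centralizer_singleton_iff]
      have e1 : y * g = g * y⁻¹ := by rw [mul_assoc, inv_mul_eq_iff_eq_mul] at hg; exact hg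
      have e3 : n⁻¹ * y = y⁻¹ * n⁻¹ := eq_mul_inv_of_mul_eq h.ny
      rw [mul_assoc, e3, ← mul_assoc, ← e1, mul_assoc]
    have h2 : g = g * n⁻¹ * n := by group
    rw [h2]
    exact mul_mem (hle h1) (n_mem_N3 h)

/-- elements commuting with `x` modulo `N` -/
def Dx (N : Subgroup G) (x : G) : Subgroup G where
  carrier := {a | a ∈ Nr N ∧ x⁻¹ * a⁻¹ * x * a ∈ N}
  one_mem' := ⟨one_mem _, by simp⟩
  mul_mem' := by
    rintro a b ⟨ha, ha'⟩ ⟨hb, hb'⟩
    refine ⟨mul_mem ha hb, ?_⟩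
    have : x⁻¹ * (a * b)⁻¹ * x * (a * b) = x⁻¹ * b⁻¹ * x * b * (b⁻¹ * (x⁻¹ * a⁻¹ * x * a) * b) := by group
    rw [this]
    exact mul_mem hb' (hb _ ha')
  inv_mem' := by
    rintro a ⟨ha, ha'⟩
    have h1 : a⁻¹ ∈ Nr N := inv_mem ha
    refine ⟨h1, ?_⟩
    have h2 := h1 _ (inv_mem ha')
    have : a⁻¹⁻¹ * (x⁻¹ * a⁻¹ * x * a)⁻¹ * a⁻¹ = x⁻¹ * a⁻¹⁻¹ * x * a⁻¹ := by group
    rwa [this] at h2

/-- `O / U` is commutative -/
theorem comm_mod {X : Set G} {N : Subgroup G} (hX : ∀ x ∈ X, x ∈ Nr N) (hXX : ∀ x ∈ X, ∀ x' ∈ X, x⁻¹ * x'⁻¹ * x * x' ∈ N)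
    {p a : G} (hp : p ∈ closure X) (ha : a ∈ closure X) : p⁻¹ * a⁻¹ * p * a ∈ N := by
  have h1 : ∀ x ∈ X, x⁻¹ * a⁻¹ * x * a ∈ N := by
    intro x hx
    have : closure X ≤ Dx N x := by
      rw [closure_le]
      intro x' hx'
      exact ⟨hX x' hx', hXX x hx x' hx'⟩
    exact (this ha).2
  have h2 : closure X ≤ Dx N a := by
    rw [closure_le]
    intro x hx
    refine ⟨hX x hx, ?_⟩
    have h3 := inv_mem (h1 x hx)
    have : (x⁻¹ * a⁻¹ * x * a)⁻¹ = a⁻¹ * x⁻¹ * a * x := by group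
    rwa [this] at h3
  have h3 := inv_mem (h2 hp).2
  have : (a⁻¹ * p⁻¹ * a * p)⁻¹ = p⁻¹ * a⁻¹ * p * a := by group
  rwa [this] at h3

theorem comm_OO (h : TB y e t w k n) {p a : G} (hp : p ∈ OO y e t w) (ha : a ∈ OO y e t w) :
    p⁻¹ * (a⁻¹ * p * a) ∈ UU y e t := by
  have hN : ∀ x ∈ OO y e t w, ∀ p ∈ UU y e t, x⁻¹ * p * x ∈ UU y e t := fun x hx =>
    (mem_N3.1 (KK_le_N3 h (OO_le_KK hx))).2.1
  have e0 : p⁻¹ * (a⁻¹ * p * a) = p⁻¹ * a⁻¹ * p * a := by group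
  rw [e0]
  refine comm_mod (X := {y} ∪ Set.range e ∪ {t} ∪ Set.range w) ?_ ?_ hp ha
  · intro x hx
    exact hN x (subset_closure hx)
  · intro x hx x' hx'
    have hxO : x ∈ OO y e t w := subset_closure hx
    have hxO' : x' ∈ OO y e t w := subset_closure hx'
    rcases hx with hx | ⟨i, rfl⟩
    · have hU : x ∈ UU y e t := subset_closure hx
      have h1 := mul_mem (inv_mem hU) (hN x' hxO' x hU)
      have : x⁻¹ * (x'⁻¹ * x * x') = x⁻¹ * x'⁻¹ * x * x' := by group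
      rwa [this] at h1
    · rcases hx' with hx' | ⟨j, rfl⟩
      · have hU : x' ∈ UU y e t := subset_closure hx'
        exact mul_mem (hN _ hxO _ (inv_mem hU)) hU
      · have h1 := h.ww i j
        have h2 : (w i)⁻¹ * (w j)⁻¹ * w i * w j = (w j * w i)⁻¹ * (w i * w j) := by group
        have hc : ∀ a, Commute (w a) t := fun a => h.wt a
        have h3 : Commute (w j * w i) (t ^ (bc i j).val) := ((hc j).mul_left (hc i)).pow_right _
        rw [h2, h1, mul_assoc, ← h3.eq, inv_mul_cancel_left]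
        exact pow_mem t_mem _

/-- (L4) the image of `K` on `O / U` has at least 25920 elements -/
def StIm : Prop := ∀ {G : Type} [Group G] [Finite G] {y : G} {e : Fin 8 → G} {t : G} {w : Fin 6 → G} {k : Fin 2 → G} {n : G},
  TB y e t w k n → 25920 * Nat.card {a : G // a ∈ KK y e t w k ∧ ∀ p ∈ OO y e t w, p⁻¹ * (a⁻¹ * p * a) ∈ UU y e t} ≤
    Nat.card (KK y e t w k)

theorem OO_sub (h : TB y e t w k n) : (OO y e t w : Set G) ⊆
    {a : G | a ∈ KK y e t w k ∧ ∀ p ∈ OO y e t w, p⁻¹ * (a⁻¹ * p * a) ∈ UU y e t} :=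
  fun _ ha => ⟨OO_le_KK ha, fun _ hp => comm_OO h hp ha⟩

/-- `StK` from the image -/
theorem stK_of (hO : StO) (hIm : StIm) : StK := by
  intro G _ _ y e t w k n h
  have h1 := hIm h
  have h2 := Set.ncard_le_ncard (OO_sub h) (Set.toFinite _)
  have h3 : (OO y e t w : Set G).ncard = 3 ^ 9 * 2 ^ 7 := hO h
  have h4 : {a : G | a ∈ KK y e t w k ∧ ∀ p ∈ OO y e t w, p⁻¹ * (a⁻¹ * p * a) ∈ UU y e t}.ncard =
    Nat.card {a : G // a ∈ KK y e t w k ∧ ∀ p ∈ OO y e t w, p⁻¹ * (a⁻¹ * p * a) ∈ UU y e t} := rfl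
  rw [h3, h4] at h2
  omega

/-- the kernel of the action on `O / U` -/
theorem mem_OO_of (hO : StO) (hIm : StIm) (h : TB y e t w k n) (hc : Nat.card (centralizer {y}) ≤ 65303470080) {g : G}
    (hg : g ∈ centralizer {y}) (hg' : ∀ p ∈ OO y e t w, p⁻¹ * (g⁻¹ * p * g) ∈ UU y e t) : g ∈ OO y e t w := by
  have h1 := hIm h
  have h3 : (OO y e t w : Set G).ncard = 3 ^ 9 * 2 ^ 7 := hO h
  have h4 : {a : G | a ∈ KK y e t w k ∧ ∀ p ∈ OO y e t w, p⁻¹ * (a⁻¹ * p * a) ∈ UU y e t}.ncard =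
    Nat.card {a : G // a ∈ KK y e t w k ∧ ∀ p ∈ OO y e t w, p⁻¹ * (a⁻¹ * p * a) ∈ UU y e t} := rfl
  have h5 := cent_eq (stK_of hO hIm) h hc
  rw [← h5.1, h5.2] at h1
  rw [h5.1] at h1 hg
  have h6 := Set.eq_of_subset_of_ncard_le (OO_sub h) (by rw [h3, h4]; omega) (Set.toFinite _)
  have h7 : g ∈ {a : G | a ∈ KK y e t w k ∧ ∀ p ∈ OO y e t w, p⁻¹ * (a⁻¹ * p * a) ∈ UU y e t} := ⟨hg, hg'⟩
  rw [← h6] at h7
  exact h7

/-- the 3-elements of `O` -/
theorem pow_nine (hNF : StNF) (hO : StO) (h : TB y e t w k n) {g : G} (hg : g ∈ OO y e t w) (h9 : g ^ 9 = 1) :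
    g ∈ PP y e := by
  have hle : PP y e ≤ OO y e t w := PP_le_UU.trans UU_le_OO
  have c1 : Nat.card (PP y e) = 3 ^ 9 := (hNF h).2.2
  have c2 : Nat.card (OO y e t w) = 3 ^ 9 * 2 ^ 7 := hO h
  have hi : (PP y e).relIndex (OO y e t w) = 2 ^ 7 := by
    have := relIndex_mul_relIndex (⊥ : Subgroup G) (PP y e) (OO y e t w) bot_le hle
    rw [relIndex_bot_left, relIndex_bot_left, c1, c2] at this
    exact Nat.eq_of_mul_eq_mul_left (by norm_num) this
  have hn : ((PP y e).subgroupOf (OO y e t w)).Normal := by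
    constructor
    rintro ⟨x, hx⟩ hx' ⟨s, hs⟩
    have h1 : s⁻¹ ∈ N3 y e t w := inv_mem (KK_le_N3 h (OO_le_KK hs))
    have h2 := (mem_N3.1 h1).1 x hx'
    rw [inv_inv] at h2
    exact h2
  have h3 := Subgroup.pow_index_mem ((PP y e).subgroupOf (OO y e t w)) (⟨g, hg⟩ : OO y e t w)
  have h4 : ((PP y e).subgroupOf (OO y e t w)).index = 2 ^ 7 := hi
  rw [h4] at h3
  have h5 : g ^ 128 ∈ PP y e := h3
  have h6 : g = (g ^ 128) ^ 5 := by
    rw [← pow_mul]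
    have : 128 * 5 = 9 * 71 + 1 := by norm_num
    rw [this, pow_add, pow_mul, h9, one_pow, one_mul, pow_one]
  rw [h6]
  exact pow_mem h5 5

end tb

/-- **(L4') + (L7)** -/
theorem stC (hNF : StNF) (hO : StO) (hIm : StIm) : StC := by
  intro G _ _ y e t w k n h hc
  obtain ⟨h1, h2⟩ := cent_eq (stK_of hO hIm) h hc
  exact ⟨h1, h2, fun g hg => mem_N3.1 (norm_y (stK_of hO hIm) h hc hg),
    fun g hg hg' => mem_OO_of hO hIm h hc hg hg', fun g hg h9 => pow_nine hNF hO h hg h9⟩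

end Cfsg.Agent.H757.U33
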